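import Groth.Agent.Sga7.H780.RigPicSh
import Groth.Agent.Pic13.H965.Kill

/-!
# Étale-local families of classes are global when there is a section

`p : Z ⟶ S` with a section `σ` and `O = p_* O` universally. A family `F : Fam p N` (a section over `N` of the étale
sheafification of `T ↦ Pic Z_T`) comes from a class on `Z_N` (`exists_class`).

`triv_of_trivAt`: if moreover every class on `Z_N` comes from `Z`, and every class on `Z` which is étale-locally on
`S` trivial is trivial, a family trivial at a point `e : S ⟶ N` is trivial.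
-/

set_option autoImplicit false
universe u

open CategoryTheory MonoidalCategory CartesianMonoidalCategory Limits AlgebraicGeometry Opposite

namespace K275.FamGlue

open Groth.Agent
open Groth.Agent.Ega3A.PicDiv Groth.Agent.Ega3A.PicEtSh Groth.Agent.Grpsch.PicGrp
open Groth.Agent.Ega3A.PicSheaf Groth.Agent.Ega3A.PicLocBase
open Groth.Agent.Fga.RigGrp Groth.Agent.Pic13.H602.Rig
open Groth.Agent.Pic13.H965.Kill Groth.Agent.Sga7.H780.RigPicSh

variable {Z S : Scheme.{u}} {p : Z ⟶ S} {σ : S ⟶ Z} (hσ : σ ≫ p = 𝟙 S)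
  (hF : ∀ T : Over S, Function.Bijective (PicF.XTproj p T).appTop)

include hσ hF in
/-- A family comes from a global class. -/
theorem exists_class {N : Over S} (F : Fam p N) :
    ∃ d : Pic (PicF.XT p N), ∀ i, LocEq p (F.𝒰.V i) (F.c i) (pu p (F.𝒰.j i) d) := by
  obtain ⟨E, hE, hcl⟩ := exists_picSh hσ hF
  have hsh : IsEtSheaf E.G := (isEtSheaf_iff _).mp E.sheaf
  obtain ⟨x, hx, -⟩ := hsh N F.𝒰 (fun i => E.η (F.c i)) (by
    intro i k W a b hab
    rw [← E.nat, ← E.nat, E.eq_iff]
    exact F.compat i k W a b hab)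
  obtain ⟨d, hd⟩ : ∃ d : Pic (PicF.XT p N), E.η d = x := by
    obtain ⟨G, η, nat, sheaf, ls, ei⟩ := E
    dsimp only at hE
    subst hE
    obtain ⟨d, hd, hxd⟩ := exists_rg hσ x
    refine ⟨d, rcl_ext hσ hF ?_⟩
    have h1 := hcl N d (η d) HEq.rfl
    rw [norm_of_mem p σ hσ hd] at h1
    rw [hxd]
    exact h1
  refine ⟨d, fun i => ?_⟩
  rw [← E.eq_iff, E.nat, hd]
  exact (hx i).symm

include hσ hF in
/-- Families trivial at a point are trivial if all classes are constant. -/
theorem triv_of_trivAt {N : Over S} (e : 𝟙_ (Over S) ⟶ N) (F : Fam p N) (he : F.TrivAt e)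
    (hsurj : Function.Surjective (pull (pullback.fst p N.hom)))
    (hloc : ∀ c : Pic (PicF.XT p (𝟙_ (Over S))), LocEq p (𝟙_ (Over S)) c 1 → c = 1) : F.Triv := by
  obtain ⟨d, hd⟩ := exists_class hσ hF F
  obtain ⟨m, rfl⟩ := hsurj d
  have h1 : LocEq p (𝟙_ (Over S)) (pu p e (pull (pullback.fst p N.hom) m)) 1 := by
    obtain ⟨𝒱, h𝒱⟩ := exists_pull F.𝒰 e
    refine LocEq.of_cover 𝒱 fun k => ?_
    obtain ⟨i, s, hs⟩ := h𝒱 k
    rw [map_one, ← pu_comp, pu_eq p hs, pu_comp]
    exact ((hd i).pull s).symm.trans (he i _ s (𝒱.j k) hs.symm)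
  have h2 := hloc _ h1
  have h3 : PicF.XTmap p e ≫ pullback.fst p N.hom = pullback.fst p (𝟙_ (Over S)).hom := XTmap_fst' p e
  rw [pu, ← pull_comp, h3] at h2
  have hiso : IsIso (pullback.fst p (𝟙_ (Over S)).hom) := by
    have : IsIso (𝟙_ (Over S)).hom := inferInstanceAs (IsIso (𝟙 S))
    infer_instance
  have h4 : m = 1 := by
    have h5 := congrArg (pull (inv (pullback.fst p (𝟙_ (Over S)).hom))) h2
    rw [← pull_comp, IsIso.inv_hom_id, pull_id, map_one] at h5
    exact h5
  subst h4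
  intro i
  have h6 := hd i
  rw [map_one, map_one] at h6
  exact h6

end K275.FamGlue
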