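import Groth.Agent.FGA.K275.FamGlue
import Groth.Agent.Pic13.H703.QC
import Groth.Agent.Pic13.H521.InjConn
import Groth.Agent.Sga7.H153.Desc
import Groth.Agent.Picfga.H0
import Groth.Agent.Ega1.GenPts
import Groth.Agent.Pic13.H970.KerAff

/-!
# No additive or multiplicative group in the Picard scheme of a geometrically normal proper scheme

* `triv_of_isIntegral`: `Z` integral, normal and proper over an algebraically closed field `K`, `N = 𝔾_a` or `𝔾_m`
  (or any affine `N` with good fibres): a family of classes over `N` which is trivial at a point is trivial;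
* `triv_of_normal`: the same for `Z` normal and proper;
* `eq_one`: every homomorphism from `N` to the geometric fibre of the Picard scheme is trivial.
-/

set_option autoImplicit false
universe u

open CategoryTheory MonoidalCategory CartesianMonoidalCategory MonObj GrpObj Limits AlgebraicGeometry Opposite

namespace K275.FamNormal

open Groth.Agent
open Groth.Agent.Ega3A.PicDiv Groth.Agent.Ega3A.PicEtSh Groth.Agent.Grpsch.PicGrp
open Groth.Agent.Ega3A.PicSheaf Groth.Agent.Ega3A.PicLocBase Groth.Agent.Fga.RigGrp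
open Groth.Agent.Pic13.H965.Kill Groth.Agent.Pic13.H965.RelGrp Groth.Agent.Pic13.H521.InjConn
open Groth.Agent.Sga7.H153.Shear Groth.Agent.Sga7.H153.Desc
open Groth.Agent.Sga3B Groth.Agent.Sga3B.BcPts Groth.Agent.Pic13.H970.KerAff

/-- Good fibres are stable under base change. -/
theorem fibGood_of_isPullback {X Z X' Z' : Scheme.{u}} {f : X ⟶ Z} {f' : X' ⟶ Z'} {g' : X' ⟶ X} {g : Z' ⟶ Z}
    (sq : IsPullback g' f' f g) (h : FibGood f) : FibGood f' := by
  intro K B _ _ _ _ a t sq'
  exact h K B (a ≫ g') (t ≫ g) (sq'.paste_horiz sq)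

/-- The structure map of a group object is the quotient by itself. -/
theorem isKernel_toUnit {S : Scheme.{u}} (G : Over S) [GrpObj G] : AlgGrp.IsKernel (𝟙 G) (toUnit G) := by
  have h : (η[𝟙_ (Over S)] : 𝟙_ (Over S) ⟶ 𝟙_ (Over S)) = 𝟙 _ := toUnit_unique _ _
  have : IsIso (η[𝟙_ (Over S)] : 𝟙_ (Over S) ⟶ 𝟙_ (Over S)) := by rw [h]; infer_instance
  exact IsPullback.of_horiz_isIso ⟨toUnit_unique _ _⟩

theorem fibGood_hom_ga (S : Scheme.{u}) : FibGood (Red.Ga S).hom := by
  have h : IsMonHom (toUnit (Red.Ga S)) := inferInstance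
  have h1 := fibGood_ga (isKernel_toUnit (Red.Ga S))
  have h2 : (toUnit (Red.Ga S)).left = (Red.Ga S).hom := by
    have := Over.w (toUnit (Red.Ga S))
    exact (Category.comp_id _).symm.trans this
  rwa [h2] at h1

theorem fibGood_hom_gm (S : Scheme.{u}) : FibGood (Red.Gm S).hom := by
  have h : IsMonHom (toUnit (Red.Gm S)) := inferInstance
  have h1 := fibGood_gm (isKernel_toUnit (Red.Gm S))
  have h2 : (toUnit (Red.Gm S)).left = (Red.Gm S).hom := by
    have := Over.w (toUnit (Red.Gm S))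
    exact (Category.comp_id _).symm.trans this
  rwa [h2] at h1

section Field

variable {K : Type u} [Field K] [IsAlgClosed K]
  {N : Over (Spec (CommRingCat.of K))} [IsAffineHom N.hom] [LocallyOfFiniteType N.hom]
  (hN : FibGood N.hom) (e : 𝟙_ (Over (Spec (CommRingCat.of K))) ⟶ N)

include hN in
theorem triv_of_isIntegral {Z : Scheme.{u}} (p : Z ⟶ Spec (CommRingCat.of K)) [IsProper p] [IsIntegral Z]
    (hZ : Pi1.IsNormalScheme Z) (F : Fam p N) (he : F.TrivAt e) : F.Triv := by
  obtain ⟨σ, hσ⟩ := Groth.Agent.Pic13.H703.KPoints.exists_section (K := K) p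
  have hF : ∀ T : Over (Spec (CommRingCat.of K)), Function.Bijective (PicF.XTproj p T).appTop := fun T => by
    have := Picfga.H0.isIso_app_of_section p σ hσ T ⊤
    exact (ConcreteCategory.isIso_iff_bijective _).1 this
  have hsub : Subsingleton ↥(Spec (CommRingCat.of K)) :=
    inferInstanceAs (Subsingleton (PrimeSpectrum K))
  have hNs : Surjective N.hom := by
    refine ⟨fun y => ⟨e.left y, Subsingleton.elim _ _⟩⟩
  have hNf : Flat N.hom := inferInstance
  have hZn : IsLocallyNoetherian Z := LocallyOfFiniteType.isLocallyNoetherian p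
  have i1 : LocallyOfFiniteType (pullback.fst p N.hom) := inferInstance
  have i2 : IsLocallyNoetherian (PicF.XT p N) := LocallyOfFiniteType.isLocallyNoetherian (pullback.fst p N.hom)
  have i3 : IsAffineHom (pullback.fst p N.hom) :=
    MorphismProperty.pullback_fst (P := @IsAffineHom) _ _ inferInstance
  have i4 : Surjective (pullback.fst p N.hom) := inferInstance
  have i5 : Flat (pullback.fst p N.hom) := inferInstance
  refine K275.FamGlue.triv_of_trivAt hσ hF e F he ?_ ?_
  · exact Groth.Agent.Sga7.H153.Desc.pull_surjective hZ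
      (fibGood_of_isPullback (IsPullback.of_hasPullback p N.hom).flip hN)
  · intro c hc
    exact Groth.Agent.Pic13.H703.QC.eq_of_locEq (K := K) (𝟙 _) p hc

include hN in
theorem triv_of_normal {Z : Scheme.{u}} (p : Z ⟶ Spec (CommRingCat.of K)) [IsProper p]
    (hZ : Pi1.IsNormalScheme Z) (F : Fam p N) (he : F.TrivAt e) : F.Triv := by
  have hn : IsLocallyNoetherian Z := LocallyOfFiniteType.isLocallyNoetherian p
  have hc : CompactSpace Z := QuasiCompact.compactSpace_of_compactSpace p
  have hN' : IsNoetherian Z := {}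
  have hlc : LocallyConnectedSpace Z := Groth.Agent.S2277.result Z fun x =>
    ⟨Set.univ, Filter.univ_mem, inferInstance⟩
  let U : ConnectedComponents Z → Z.Opens := fun C =>
    ⟨ConnectedComponents.mk ⁻¹' {C}, (isOpen_discrete {C}).preimage ConnectedComponents.continuous_coe⟩
  have hUcl : ∀ C, IsClosed (U C : Set Z) := fun C =>
    (isClosed_discrete {C}).preimage ConnectedComponents.continuous_coe
  have h1 : ∀ C, (F.restr (rfl : (U C).ι ≫ p = (U C).ι ≫ p)).Triv := by
    intro C
    have hcl : IsClosedImmersion (U C).ι := IsClosedImmersion.of_isPreimmersion _ (by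
      rw [Scheme.Opens.range_ι]
      exact hUcl C)
    have hconn : ConnectedSpace (U C) := by
      obtain ⟨y, rfl⟩ := ConnectedComponents.surjective_coe C
      refine isConnected_iff_connectedSpace.mp ?_
      change _root_.IsConnected (ConnectedComponents.mk ⁻¹' {ConnectedComponents.mk y})
      rw [connectedComponents_preimage_singleton]
      exact isConnected_connectedComponent
    have hnU : Pi1.IsNormalScheme (U C).toScheme := by
      intro x
      obtain ⟨h1, h2⟩ := hZ ((U C).ι x)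
      let e : Z.presheaf.stalk ((U C).ι x) ≃+* (U C).toScheme.presheaf.stalk x :=
        (asIso ((U C).ι.stalkMap x)).commRingCatIsoToRingEquiv
      exact ⟨e.symm.toMulEquiv.isDomain _, IsIntegrallyClosed.of_equiv e⟩
    have hint : IsIntegral (U C).toScheme := by
      rw [Groth.Agent.Ega1.GenPts.isIntegral_iff]
      exact ⟨hconn, fun x => (hnU x).1⟩
    exact triv_of_isIntegral hN e ((U C).ι ≫ p) hnU _ (he.restr rfl)
  intro i
  have h3 : ∃ 𝒰 : ECov (F.𝒰.V i), ∀ l C,
      rs (rfl : (U C).ι ≫ p = (U C).ι ≫ p) _ (pu p (𝒰.j l) (F.c i)) = 1 := by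
    refine exists_common (T := F.𝒰.V i)
      (fun C V f => rs (rfl : (U C).ι ≫ p = (U C).ι ≫ p) V (pu p f (F.c i)) = 1) ?_ ?_
    · intro C V W f g hf
      rw [pu_comp, rs_pu, hf, map_one]
    · intro C
      obtain ⟨𝒰, h𝒰⟩ := h1 C i
      refine ⟨𝒰, fun l => ?_⟩
      have := h𝒰 l
      rw [map_one] at this
      rw [rs_pu]
      exact this
  obtain ⟨𝒰, h𝒰⟩ := h3
  refine ⟨𝒰, fun l => ?_⟩
  rw [map_one]
  have hoi : ∀ C, IsOpenImmersion (bc (rfl : (U C).ι ≫ p = (U C).ι ≫ p) (𝒰.V l)) := fun C =>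
    isOpenImmersion_bc _ _
  refine eq_one_of_disjoint (fun C => PicF.XT ((U C).ι ≫ p) (𝒰.V l))
    (fun C => bc (rfl : (U C).ι ≫ p = (U C).ι ≫ p) (𝒰.V l)) ?_ ?_ _ (h𝒰 l)
  · have key : ∀ C (z : (PicF.XT p (𝒰.V l) : Scheme.{u})),
        z ∈ (bc (rfl : (U C).ι ≫ p = (U C).ι ≫ p) (𝒰.V l)).opensRange →
        ConnectedComponents.mk (pullback.fst p (𝒰.V l).hom z) = C := by
      rintro C _ ⟨w, rfl⟩
      have e1 := congr($(bc_fst (rfl : (U C).ι ≫ p = (U C).ι ≫ p) (𝒰.V l)) w)
      rw [Scheme.Hom.comp_apply, Scheme.Hom.comp_apply] at e1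
      rw [e1]
      exact (pullback.fst ((U C).ι ≫ p) (𝒰.V l).hom w).2
    intro C C' hCC z hz
    exact absurd ((key C z hz.1).symm.trans (key C' z hz.2)) hCC
  · intro z
    exact ⟨ConnectedComponents.mk (pullback.fst p (𝒰.V l).hom z),
      mem_range_bc _ _ z ⟨pullback.fst p (𝒰.V l).hom z, rfl⟩ rfl⟩

end Field

/-- A homomorphism from `𝔾_a` or `𝔾_m` to the geometric fibre of the Picard scheme is trivial if the geometric fibre
of `X` is normal. -/
theorem eq_one {X S : Scheme.{u}} {f : X ⟶ S} [IsProper f] {K : Type u} [Field K] [IsAlgClosed K]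
    (b : Spec (CommRingCat.of K) ⟶ S) (hZ : Pi1.IsNormalScheme (pullback f b)) {P : Over S}
    {φ : ∀ T : Over S, PicF.Cl (PicF.XT f T) → (T ⟶ P)} (hφ : PicRel.IsRelPic f P φ) [GrpObj P]
    (h1 : ∀ T : Over S, cm φ (1 : Pic (PicF.XT f T)) = 1)
    (N : Over (Spec (CommRingCat.of K))) [GrpObj N] [IsAffineHom N.hom] [LocallyOfFiniteType N.hom]
    (hN : FibGood N.hom) (a : N ⟶ Red.bc b P) [IsMonHom a] : a = 1 := by
  let g0 : (Over.map b).obj N ⟶ P := (bcEquiv b N P).symm a
  obtain ⟨F, hF⟩ := exists_fam b hφ N g0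
  have hηa : (Over.map b).map (η[N] : 𝟙_ (Over (Spec (CommRingCat.of K))) ⟶ N) ≫ g0 = 1 := by
    change (Over.map b).map (η[N] : 𝟙_ (Over (Spec (CommRingCat.of K))) ⟶ N) ≫ (bcEquiv b N P).symm a = 1
    rw [← comp_bcEquiv_symm, IsMonHom.one_hom, one_eq_one, bcEquiv_symm_one]
  have hT : F.TrivAt (η[N] : 𝟙_ (Over (Spec (CommRingCat.of K))) ⟶ N) := by
    intro i W x y hxy
    rw [← locEq_tr_iff, ← cm_eq_iff hφ, tr_pu, cm_pu hφ, hF, ← Category.assoc, ← Functor.map_comp, hxy,
      Functor.map_comp, Category.assoc, hηa, MonObj.comp_one]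
    have h2 : tr b W (1 : Pic (PicF.XT (pullback.snd f b) W)) = 1 := map_one _
    rw [h2, h1]
  have hF' := triv_of_normal hN (η[N] : 𝟙_ (Over (Spec (CommRingCat.of K))) ⟶ N) (pullback.snd f b) hZ F hT
  have h3 : g0 = 1 := by
    refine hom_ext_ecov (ecovMap b F.𝒰) _ _ (fun i => ?_)
    change (Over.map b).map (F.𝒰.j i) ≫ g0 = (Over.map b).map (F.𝒰.j i) ≫ 1
    rw [← hF, MonObj.comp_one]
    have h2 : tr b (F.𝒰.V i) (1 : Pic (PicF.XT (pullback.snd f b) (F.𝒰.V i))) = 1 := map_one _
    rw [← h1, ← h2, cm_eq_iff hφ, locEq_tr_iff]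
    exact hF' i
  have h4 : bcEquiv b N P g0 = a := Equiv.apply_symm_apply _ _
  rw [← h4, h3, bcEquiv_one]

end K275.FamNormal
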