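import Groth.Agent.Flat2C.ContrLocal
import Mathlib.AlgebraicGeometry.Morphisms.Flat

/-!
# `O_S ≅ f_* O_X` is stable under flat base change

* `bijective_app`: `f` quasi-compact and quasi-separated, `g` flat.
-/

set_option autoImplicit false

universe u

open CategoryTheory CategoryTheory.Limits AlgebraicGeometry Opposite TopologicalSpace

namespace K275.FlatApp

/-- bijectivity of the comorphism over all opens from bijectivity over small affine opens -/
theorem bijective_app_of_small {X Y : Scheme.{u}} (f : X ⟶ Y) [QuasiCompact f] [QuasiSeparated f]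
    (h : ∀ y : Y, ∃ W : Y.Opens, y ∈ W ∧ ∀ U : Y.Opens, IsAffineOpen U → U ≤ W → Function.Bijective (f.app U))
    (U : Y.Opens) : Function.Bijective (f.app U) := by
  have h1 : ∀ U : Y.Opens, IsAffineOpen U → Function.Bijective (f.app U) := by
    intro U hU
    refine Groth.Agent.Flat2C.ContrLocal.bijective_app_of_forall hU fun y hy => ?_
    obtain ⟨W, hyW, hW⟩ := h y
    obtain ⟨U', hU', hyU', hle⟩ := Opens.isBasis_iff_nbhd.mp Y.isBasis_affineOpens
      (U := W) (x := y) hyW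
    exact ⟨U', hU', hyU', hW U' hU' hle⟩
  have h2 : IsIso (f.app U) := Groth.Agent.Flat2C.ContrLocal.isIso_app_of_forall (V := ⊤)
    (fun U _ hU => h1 U hU) U le_top
  exact (ConcreteCategory.isIso_iff_bijective _).mp h2

/-- `O_S ≅ f_* O_X` is stable under flat base change. -/
theorem bijective_app {X S X' S' : Scheme.{u}} {f : X ⟶ S} {g : S' ⟶ S} {g' : X' ⟶ X} {f' : X' ⟶ S'}
    (H : IsPullback g' f' f g) [QuasiCompact f] [QuasiSeparated f] [Flat g]
    (hf : ∀ U : S.Opens, Function.Bijective (f.app U)) (U : S'.Opens) : Function.Bijective (f'.app U) := by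
  have : QuasiCompact f' := MorphismProperty.of_isPullback H inferInstance
  have : QuasiSeparated f' := MorphismProperty.of_isPullback H inferInstance
  refine bijective_app_of_small f' (fun y => ?_) U
  obtain ⟨W, hW, hyW, -⟩ := Opens.isBasis_iff_nbhd.1 S.isBasis_affineOpens
    (U := (⊤ : S.Opens)) (x := g y) trivial
  refine ⟨g ⁻¹ᵁ W, hyW, fun V hV hVW => ?_⟩
  have hcpt : IsCompact (X := X) (f ⁻¹ᵁ W) := QuasiCompact.isCompact_preimage _ W.2 hW.isCompact
  have hqs : IsQuasiSeparated (α := X) (f ⁻¹ᵁ W) := Scheme.Hom.isQuasiSeparated_preimage f hW.isQuasiSeparated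
  have hUY : f' ⁻¹ᵁ V = g' ⁻¹ᵁ (f ⁻¹ᵁ W) ⊓ f' ⁻¹ᵁ V := by
    have h1 : g' ⁻¹ᵁ (f ⁻¹ᵁ W) = f' ⁻¹ᵁ (g ⁻¹ᵁ W) := by
      rw [← Scheme.Hom.comp_preimage, ← Scheme.Hom.comp_preimage, H.w]
    rw [h1]
    exact (inf_eq_right.2 (f'.preimage_mono hVW)).symm
  have h1 := (isIso_pushoutSection_iff H hVW (le_refl (f ⁻¹ᵁ W)) hUY).mp
    (isIso_pushoutSection_of_isQuasiSeparated_of_flat_right H hVW (le_refl (f ⁻¹ᵁ W)) hUY hW hV hcpt hqs)
  have h2 : IsIso (f.appLE W (f ⁻¹ᵁ W) (le_refl _)) := by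
    rw [Scheme.Hom.appLE_eq_app]
    exact (ConcreteCategory.isIso_iff_bijective _).mpr (hf W)
  have h3 : IsIso (f'.appLE V (f' ⁻¹ᵁ V) (le_refl _)) := h1.isIso_inr_of_isIso
  rw [Scheme.Hom.appLE_eq_app] at h3
  exact (ConcreteCategory.isIso_iff_bijective _).mp h3

end K275.FlatApp
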