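import Groth.Agent.S3023
import Groth.Agent.S3025
import Groth.Agent.Sga3.H783.Dichotomy
import Groth.Agent.Etbase.FpqcDescent
import Groth.Agent.Sga3C.GrpIrr
import Groth.Agent.Sga7.H756.GenBase
import Groth.Agent.Books.AntiAffine
import Mathlib.AlgebraicGeometry.Morphisms.FlatMono

/-!
# Identity components of group schemes locally of finite type over a field, and properness

* `exists_idComp`: the identity component is an open and closed subgroup, quasi-compact, geometrically irreducible;
* `isProper_of_forall_hom_eq_one`: if the geometric fibre of `G` receives no non-trivial homomorphism from `𝔾_a` or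
  `𝔾_m`, the identity component is proper.
-/

set_option autoImplicit false
universe u

open CategoryTheory MonoidalCategory CartesianMonoidalCategory MonObj GrpObj Limits AlgebraicGeometry

namespace K275.IdProper

open Groth.Agent

lemma lfp_of_noetherian {X Y : Scheme.{u}} (f : X ⟶ Y)
    [IsLocallyNoetherian Y] [LocallyOfFiniteType f] : LocallyOfFinitePresentation f where
  finitePresentation_appLE {U} hU {V} hV e := by
    have : IsNoetherianRing Γ(Y, U) := IsLocallyNoetherian.component_noetherian ⟨U, hU⟩
    exact RingHom.FinitePresentation.of_finiteType.1 (f.finiteType_appLE hU hV e)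

/-- The identity component of a group scheme locally of finite type over a field. -/
theorem exists_idComp (k : Type u) [Field k] (G : Over (Spec (CommRingCat.of k))) [GrpObj G]
    [LocallyOfFiniteType G.hom] :
    ∃ (G0 : Over (Spec (CommRingCat.of k))) (_ : GrpObj G0) (i : G0 ⟶ G), IsMonHom i ∧ IsClosedImmersion i.left ∧
      IsOpenImmersion i.left ∧ LocallyOfFiniteType G0.hom ∧ QuasiCompact G0.hom ∧ ConnectedSpace G0.left ∧
      GeometricallyIrreducible G0.hom ∧
      ∀ pt : ↥(𝟙_ (Over (Spec (CommRingCat.of k)))).left,
        Set.range i.left.base = connectedComponent (η[G].left.base pt) := by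
  obtain ⟨G0, _, i0, hi0, hi0c, hi0f, hr0⟩ := S3023.result k G
  have hG0lft : LocallyOfFiniteType G0.hom := by rw [← Over.w i0]; infer_instance
  have hN : IsLocallyNoetherian G.left := LocallyOfFiniteType.isLocallyNoetherian G.hom
  have hlfp : LocallyOfFinitePresentation i0.left := lfp_of_noetherian i0.left
  have hi0m : Mono i0.left := inferInstance
  have hop : IsOpenImmersion i0.left := IsOpenImmersion.of_flat_of_mono i0.left
  let pt : ↥(𝟙_ (Over (Spec (CommRingCat.of k)))).left := IsLocalRing.closedPoint k
  have hG0conn : ConnectedSpace G0.left := by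
    have h1 : _root_.IsConnected (Set.range i0.left) := by
      have := hr0 pt
      change Set.range i0.left = _ at this
      rw [this]; exact isConnected_connectedComponent
    have h2 := i0.left.isClosedEmbedding.isEmbedding.toHomeomorph
    have h3 : ConnectedSpace (Set.range i0.left) := isConnected_iff_connectedSpace.mp h1
    exact h2.symm.surjective.connectedSpace h2.symm.continuous
  have hgi : GeometricallyIrreducible G0.hom := by
    let _ : GrpObj (Over.mk G0.hom) := inferInstanceAs (GrpObj G0)
    exact Sga3C.GrpIrr.geometricallyIrreducible_of_connectedSpace G0.hom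
  have hqc : QuasiCompact G0.hom := by
    have hlfp' : LocallyOfFinitePresentation G0.hom := by
      have : IsLocallyNoetherian (Spec (CommRingCat.of k)) := inferInstance
      exact lfp_of_noetherian G0.hom
    have huo : UniversallyOpen G0.hom := inferInstance
    refine (S3025.result (Spec (CommRingCat.of k)) G0 fun s => ?_).2
    have h1 : G0.hom.base ⁻¹' {s} = Set.univ := by
      ext x
      simp only [Set.mem_preimage, Set.mem_singleton_iff, Set.mem_univ, iff_true]
      have hsub : Subsingleton (Spec (CommRingCat.of k)) :=
        inferInstanceAs (Subsingleton (PrimeSpectrum k))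
      exact Subsingleton.elim _ _
    rw [h1]
    exact isConnected_univ
  exact ⟨G0, inferInstance, i0, hi0, hi0c, hop, hG0lft, hqc, hG0conn, hgi, hr0⟩

/-- A group scheme of finite type whose geometric fibre receives no non-trivial homomorphism from `𝔾_a` or `𝔾_m` is
proper. -/
theorem isProper_of_forall_hom_eq_one (k : Type u) [Field k] (G0 : Over (Spec (CommRingCat.of k))) [GrpObj G0]
    [LocallyOfFiniteType G0.hom] [QuasiCompact G0.hom] (K : Type u) [Field K] [IsAlgClosed K]
    (b : Spec (CommRingCat.of K) ⟶ Spec (CommRingCat.of k))
    (hga : ∀ a : Red.Ga (Spec (CommRingCat.of K)) ⟶ Red.bc b G0, IsMonHom a → a = 1)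
    (hgm : ∀ a : Red.Gm (Spec (CommRingCat.of K)) ⟶ Red.bc b G0, IsMonHom a → a = 1) : IsProper G0.hom := by
  have hsub : Subsingleton ↥(Spec (CommRingCat.of k)) :=
    inferInstanceAs (Subsingleton (PrimeSpectrum k))
  have i1 : LocallyOfFiniteType (Red.bc b G0).hom :=
    inferInstanceAs (LocallyOfFiniteType (pullback.snd G0.hom b))
  have i2 : QuasiCompact (Red.bc b G0).hom := inferInstanceAs (QuasiCompact (pullback.snd G0.hom b))
  have hK : IsProper (Red.bc b G0).hom := by
    by_contra h
    rcases Sga3.H783.Dichotomy.exists_hom_ga_or_gm K (Red.bc b G0) h with ⟨j, hj, hne⟩ | ⟨j, hj, hne⟩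
    · exact hne (hga j hj)
    · exact hne (hgm j hj)
  have hbs : Surjective b := ⟨fun y => ⟨IsLocalRing.closedPoint K, Subsingleton.elim _ _⟩⟩
  have hbf : Flat b := inferInstance
  have hbq : QuasiCompact b := inferInstance
  have := Etbase.FpqcDescent.descendsAlong_isProper.{u}
  refine MorphismProperty.of_pullback_snd_of_descendsAlong (P := @IsProper)
    (Q := @Surjective ⊓ @Flat ⊓ @QuasiCompact) (f := G0.hom) (g := b) ⟨⟨hbs, hbf⟩, hbq⟩ ?_
  exact hK

end K275.IdProper
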