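import Groth.Agent.S2693
import Groth.Prelude.Def_Pi1
import Mathlib.AlgebraicGeometry.Morphisms.FiniteType

/-!
# Geometrically normal schemes stay normal after every field extension

`main`: `X` locally of finite type over `k`, normal after every finite extension of `k`: then `X_K` is normal for every
field extension `K` of `k`.
-/

set_option autoImplicit false
universe u
open CategoryTheory CategoryTheory.Limits AlgebraicGeometry TensorProduct

namespace K275.NormBC

/-- Open subschemes of normal schemes are normal. -/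
theorem isNormalScheme_of_isOpenImmersion {X Y : Scheme.{u}} (f : X ⟶ Y) [IsOpenImmersion f]
    (hY : Pi1.IsNormalScheme Y) : Pi1.IsNormalScheme X := by
  intro x
  obtain ⟨h1, h2⟩ := hY (f x)
  let e : Y.presheaf.stalk (f x) ≃+* X.presheaf.stalk x :=
    (asIso (f.stalkMap x)).commRingCatIsoToRingEquiv
  exact ⟨e.symm.toMulEquiv.isDomain _, IsIntegrallyClosed.of_equiv e⟩

theorem isNormalRing_of_spec {R : Type u} [CommRing R] (h : Pi1.IsNormalScheme (Spec (CommRingCat.of R))) :
    EGA4.IsNormalRing R := by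
  intro p hp
  obtain ⟨h1, h2⟩ := h (⟨p, hp⟩ : PrimeSpectrum R)
  let e : (Spec (CommRingCat.of R)).presheaf.stalk (⟨p, hp⟩ : PrimeSpectrum R) ≃+* Localization.AtPrime p :=
    (Spec.stalkIso (CommRingCat.of R) ⟨p, hp⟩).commRingCatIsoToRingEquiv
  exact ⟨e.symm.toMulEquiv.isDomain _, IsIntegrallyClosed.of_equiv e⟩

theorem isNormalScheme_spec {R : Type u} [CommRing R] (h : EGA4.IsNormalRing R) :
    Pi1.IsNormalScheme (Spec (CommRingCat.of R)) := by
  intro y
  obtain ⟨h1, h2⟩ := h (y : PrimeSpectrum R).asIdeal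
  let e : (Spec (CommRingCat.of R)).presheaf.stalk y ≃+* Localization.AtPrime (y : PrimeSpectrum R).asIdeal :=
    (Spec.stalkIso (CommRingCat.of R) y).commRingCatIsoToRingEquiv
  exact ⟨e.toMulEquiv.isDomain _, IsIntegrallyClosed.of_equiv e.symm⟩

/-- The base change of an open immersion. -/
theorem exists_chart {X Y S S' : Scheme.{u}} (f : X ⟶ S) (b : S' ⟶ S) (j : Y ⟶ X) [IsOpenImmersion j]
    (jf : Y ⟶ S) (hjf : j ≫ f = jf) :
    ∃ g : pullback jf b ⟶ pullback f b, IsOpenImmersion g ∧
      IsPullback g (pullback.fst jf b) (pullback.fst f b) j := by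
  subst hjf
  have h : IsPullback (pullback.map (j ≫ f) b f b j (𝟙 _) (𝟙 _) (by simp) (by simp))
      (pullback.fst (j ≫ f) b) (pullback.fst f b) j := by
    refine IsPullback.of_right (h₁₂ := pullback.snd f b) (v₁₃ := b) (h₂₂ := f) ?_ (pullback.lift_fst _ _ _)
      (IsPullback.of_hasPullback f b).flip
    have h1 : pullback.map (j ≫ f) b f b j (𝟙 _) (𝟙 _) (by simp) (by simp) ≫ pullback.snd f b =
        pullback.snd (j ≫ f) b := (pullback.lift_snd _ _ _).trans (Category.comp_id _)
    rw [h1]
    exact (IsPullback.of_hasPullback (j ≫ f) b).flip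
  exact ⟨_, MorphismProperty.of_isPullback h.flip ‹_›, h⟩

/-- Spectra of tensor products. -/
theorem isNormalRing_tensor_iff (k T k' : Type u) [Field k] [CommRing T] [Field k'] [Algebra k T] [Algebra k k'] :
    Pi1.IsNormalScheme (pullback (Spec.map (CommRingCat.ofHom (algebraMap k T)))
      (Spec.map (CommRingCat.ofHom (algebraMap k k')))) ↔ EGA4.IsNormalRing (k' ⊗[k] T) := by
  let e1 : pullback (Spec.map (CommRingCat.ofHom (algebraMap k T)))
      (Spec.map (CommRingCat.ofHom (algebraMap k k'))) ≅ Spec (CommRingCat.of (T ⊗[k] k')) :=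
    pullbackSpecIso k T k'
  let e2 : Spec (CommRingCat.of (k' ⊗[k] T)) ≅ Spec (CommRingCat.of (T ⊗[k] k')) :=
    Scheme.Spec.mapIso (Algebra.TensorProduct.comm k T k').toRingEquiv.toCommRingCatIso.op
  let e := e1 ≪≫ e2.symm
  constructor
  · intro h
    exact isNormalRing_of_spec (isNormalScheme_of_isOpenImmersion e.inv h)
  · intro h
    exact isNormalScheme_of_isOpenImmersion e.hom (isNormalScheme_spec h)

/-- Geometrically normal schemes, locally of finite type over a field, stay normal after every field extension. -/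
theorem main (k : Type u) [Field k] {X : Scheme.{u}} (f : X ⟶ Spec (CommRingCat.of k)) [LocallyOfFiniteType f]
    (hnorm : ∀ (k' : Type u) [Field k'] [Algebra k k'], Module.Finite k k' →
      Pi1.IsNormalScheme (pullback f (Spec.map (CommRingCat.ofHom (algebraMap k k')))))
    (K : Type u) [Field K] [Algebra k K] :
    Pi1.IsNormalScheme (pullback f (Spec.map (CommRingCat.ofHom (algebraMap k K)))) := by
  intro z
  obtain ⟨_, ⟨U, hU, rfl⟩, hxU, -⟩ :=
    X.isBasis_affineOpens.exists_subset_of_mem_open (Set.mem_univ (pullback.fst f _ z)) isOpen_univ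
  let T : Type u := Γ(X, U)
  let j : Spec (CommRingCat.of T) ⟶ X := hU.fromSpec
  have hj : IsOpenImmersion j := inferInstanceAs (IsOpenImmersion hU.fromSpec)
  let φ : CommRingCat.of k ⟶ CommRingCat.of T := Spec.preimage (j ≫ f)
  let _ : Algebra k T := φ.hom.toAlgebra
  have hφ : j ≫ f = Spec.map (CommRingCat.ofHom (algebraMap k T)) := (Spec.map_preimage (j ≫ f)).symm
  have hft : Algebra.FiniteType k T := by
    have h1 : LocallyOfFiniteType (Spec.map (CommRingCat.ofHom (algebraMap k T))) := by
      rw [← hφ]; infer_instance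
    exact (HasRingHomProperty.Spec_iff (P := @LocallyOfFiniteType)).mp h1
  have hgeo : EGA4.IsGeomNormal k T := by
    intro k' _ _ hk'
    rw [← isNormalRing_tensor_iff]
    obtain ⟨g, hg, -⟩ := exists_chart f (Spec.map (CommRingCat.ofHom (algebraMap k k'))) j _ hφ
    exact isNormalScheme_of_isOpenImmersion g (hnorm k' hk')
  have hK := Groth.Agent.S2693.isNormalRing_of_finiteType k T hgeo K
  rw [← isNormalRing_tensor_iff] at hK
  obtain ⟨g, hg, hgp⟩ := exists_chart f (Spec.map (CommRingCat.ofHom (algebraMap k K))) j _ hφ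
  obtain ⟨x, hx⟩ : pullback.fst f (Spec.map (CommRingCat.ofHom (algebraMap k K))) z ∈ Set.range j := by
    have : Set.range j = U := by
      change Set.range hU.fromSpec = U
      exact hU.range_fromSpec
    rw [this]
    exact hxU
  obtain ⟨w, hw, -⟩ := Scheme.exists_preimage_of_isPullback hgp z x hx.symm
  obtain ⟨h1, h2⟩ := hK w
  subst hw
  let e := (asIso (g.stalkMap w)).commRingCatIsoToRingEquiv
  exact ⟨e.toMulEquiv.isDomain _, IsIntegrallyClosed.of_equiv e.symm⟩

end K275.NormBC
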