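import Groth.Agent.FGA.K275.FamNormal
import Groth.Agent.FGA.K275.NormBC
import Groth.Agent.FGA.K275.IdProper

/-!
# The identity component of the Picard scheme of a geometrically normal proper scheme is proper

`exists_idComp`: the identity component `G0 ⟶ P` (open and closed subgroup, geometrically irreducible, proper).
-/

set_option autoImplicit false
universe u

open CategoryTheory MonoidalCategory CartesianMonoidalCategory MonObj GrpObj Limits AlgebraicGeometry Opposite

namespace K275.PicZero

open Groth.Agent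
open Groth.Agent.Ega3A.PicDiv Groth.Agent.Ega3A.PicEtSh Groth.Agent.Grpsch.PicGrp
open Groth.Agent.Ega3A.PicSheaf Groth.Agent.Ega3A.PicLocBase Groth.Agent.Fga.RigGrp
open Groth.Agent.Pic13.H965.Kill Groth.Agent.Pic13.H965.RelGrp

/-- The identity point of the Picard scheme. -/
theorem cl_one_eq {X S : Scheme.{u}} {f : X ⟶ S} {P : Over S} [GrpObj P]
    {φ : ∀ T : Over S, PicF.Cl (PicF.XT f T) → (T ⟶ P)}
    (h1 : ∀ T : Over S, cm φ (1 : Pic (PicF.XT f T)) = 1) :
    φ (Over.mk (𝟙 _)) (PicF.cl (Coh.structureModule _)) = η[P] := by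
  have h2 := h1 (Over.mk (𝟙 S))
  have h3 : cm φ (1 : Pic (PicF.XT f (Over.mk (𝟙 S)))) = φ (Over.mk (𝟙 _)) (PicF.cl (Coh.structureModule _)) := rfl
  rw [← h3, h2]
  exact (one_eq_one (M := P)).symm

theorem exists_idComp (k : Type u) [Field k] (X : Scheme.{u})
    (f : X ⟶ Spec (CommRingCat.of k)) [IsProper f]
    (hnorm : ∀ (k' : Type u) [Field k'] [Algebra k k'], Module.Finite k k' →
      Pi1.IsNormalScheme (pullback f (Spec.map (CommRingCat.ofHom (algebraMap k k')))))
    (P : Over (Spec (CommRingCat.of k))) [LocallyOfFiniteType P.hom]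
    (φ : ∀ T : Over (Spec (CommRingCat.of k)), PicF.Cl (PicF.XT f T) → (T ⟶ P)) (hP : PicRel.IsRelPic f P φ) :
    ∃ (_ : GrpObj P) (_ : IsCommMonObj P) (G0 : Over (Spec (CommRingCat.of k))) (_ : GrpObj G0) (i : G0 ⟶ P),
      IsMonHom i ∧ IsClosedImmersion i.left ∧ IsOpenImmersion i.left ∧ IsProper G0.hom ∧
      ConnectedSpace G0.left ∧ GeometricallyIrreducible G0.hom ∧ (∀ pt : ↥(Spec (CommRingCat.of k)),
        Set.range i.left.base =
          connectedComponent ((φ (Over.mk (𝟙 _)) (PicF.cl (Coh.structureModule _))).left.base pt)) := by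
  obtain ⟨_, hmul, hone, hcomm⟩ := exists_grpObj hP
  obtain ⟨G0, _, i, hi, hic, hio, hlft, hqc, hconn, hgi, hr⟩ := IdProper.exists_idComp k P
  refine ⟨inferInstance, hcomm, G0, inferInstance, i, hi, hic, hio, ?_, hconn, hgi, fun pt => ?_⟩
  · let K : Type u := AlgebraicClosure k
    let b : Spec (CommRingCat.of K) ⟶ Spec (CommRingCat.of k) := Spec.map (CommRingCat.ofHom (algebraMap k K))
    have hZ : Pi1.IsNormalScheme (pullback f b) := NormBC.main k f hnorm K
    let iK : Red.bc b G0 ⟶ Red.bc b P := (Over.pullback b).map i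
    have him : Mono i := Over.mono_of_mono_left i
    have hiKm : Mono iK := inferInstanceAs (Mono ((Over.pullback b).map i))
    have hiKh : IsMonHom iK := inferInstance
    refine IdProper.isProper_of_forall_hom_eq_one k G0 K b (fun a ha => ?_) (fun a ha => ?_)
    · have hN : IsAffineHom (Red.Ga (Spec (CommRingCat.of K))).hom := inferInstance
      have hN' : LocallyOfFiniteType (Red.Ga (Spec (CommRingCat.of K))).hom := inferInstance
      have h1 := FamNormal.eq_one b hZ hP hone _ (FamNormal.fibGood_hom_ga _) (a ≫ iK)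
      rw [← cancel_mono iK, h1, MonObj.one_comp]
    · have hN : IsAffineHom (Red.Gm (Spec (CommRingCat.of K))).hom := by
        have h : IsAffineHom (Red.diag (ULift.{u} ℤ) ℤ).hom := by
          change IsAffineHom (Spec.map _)
          infer_instance
        exact MorphismProperty.pullback_snd _ _ h
      have hN'' : Smooth (Red.Gm (Spec (CommRingCat.of K))).hom := Sga3.H783.GaGm.smooth_gm K
      have hN' : LocallyOfFiniteType (Red.Gm (Spec (CommRingCat.of K))).hom := inferInstance
      have h1 := FamNormal.eq_one b hZ hP hone _ (FamNormal.fibGood_hom_gm _) (a ≫ iK)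
      rw [← cancel_mono iK, h1, MonObj.one_comp]
  · rw [cl_one_eq hone]
    exact hr pt

end K275.PicZero
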