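import Groth.Agent.S3023
import Groth.Agent.S3030
import Groth.Agent.S3034
import Groth.Agent.Sga3B.RedIdComp
import Groth.Agent.Sga3.H794.PowReduced
import Groth.Agent.Sga7.H758.AlgClosed
import Groth.Agent.Sga7.H756.GenBase
import Groth.Agent.Pic13.H965.LFT
import Groth.Agent.Grpsch.AbBC
import Mathlib.AlgebraicGeometry.Morphisms.LocalFlatDescent

/-!
# Smoothness of the reduced identity component of a commutative group without additive subgroup

* `exists_pow_factor`: over an algebraically closed field, some power map of a connected commutative group of finite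
  type factors through the reduced subgroup;
* `exists_smooth_of_surjective_pow`: if the power maps of the geometric reduced identity component are surjective, the
  reduced identity component is a smooth subgroup scheme over the ground field.
-/

set_option autoImplicit false

universe u

open CategoryTheory CategoryTheory.Limits AlgebraicGeometry MonObj GrpObj
open MonoidalCategory CartesianMonoidalCategory

namespace K275.RedSmooth

open Groth.Agent Groth.Agent.Books.AlgPts

/-- A finite group scheme over a field is killed by a positive integer. -/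
theorem exists_pow_eq_one (K : Type u) [Field K] (F : Over (Spec (CommRingCat.of K))) [GrpObj F]
    [IsFinite F.hom] : ∃ n : ℕ, 1 ≤ n ∧ (𝟙 F : F ⟶ F) ^ n = 1 := by
  have hsub : Subsingleton ↥(Spec (CommRingCat.of K)) :=
    inferInstanceAs (Subsingleton (PrimeSpectrum K))
  let y : Spec (CommRingCat.of K) := IsLocalRing.closedPoint K
  have hfl : Flat F.hom := inferInstance
  have hlfp : LocallyOfFinitePresentation F.hom := by
    have : IsNoetherianRing (CommRingCat.of K) := inferInstanceAs (IsNoetherianRing K)
    infer_instance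
  have hy : F.hom (η[F].left y) = y := Subsingleton.elim _ _
  refine ⟨F.hom.finrank y, ?_, ?_⟩
  · rw [← hy]
    exact Scheme.Hom.one_le_finrank_map F.hom _
  · refine Groth.Agent.Sga3.H794.PowReduced.pow_eq_one_affine K F _ ⟨⟨‹_›, hfl, hlfp⟩, ?_⟩
    intro z
    rw [Subsingleton.elim z y]

/-- Some power map of a connected commutative group factors through a closed subgroup with the same space. -/
theorem exists_pow_factor (K : Type u) [Field K] (D E : Over (Spec (CommRingCat.of K))) [GrpObj D] [GrpObj E]
    [IsCommMonObj D] [LocallyOfFiniteType D.hom] [QuasiCompact D.hom] (e : E ⟶ D) [IsMonHom e]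
    [IsClosedImmersion e.left] [Surjective e.left] :
    ∃ (n : ℕ) (a : D ⟶ E), 1 ≤ n ∧ a ≫ e = (𝟙 D : D ⟶ D) ^ n := by
  have hm : Mono e := Over.mono_of_mono_left e
  have hsub : Subsingleton ↥(Spec (CommRingCat.of K)) :=
    inferInstanceAs (Subsingleton (PrimeSpectrum K))
  have hElft : LocallyOfFiniteType E.hom := by rw [← Over.w e]; infer_instance
  have hfE : Flat E.hom := inferInstance
  have hfD : Flat D.hom := inferInstance
  obtain ⟨Q, _, p, hp, hpf, hps, hplfp, hker, hsep, -, -⟩ := S3030.result K E D e (by
    intro T g n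
    refine ⟨n, ?_⟩
    rw [_root_.mul_comm g, mul_inv_cancel_right])
  have hlftQ : LocallyOfFiniteType Q.hom := by
    have : LocallyOfFiniteType (p.left ≫ Q.hom) := by rw [Over.w]; infer_instance
    exact Pic13.H965.LFT.locallyOfFiniteType_of_fppf_comp p.left Q.hom
  have hep : Surjective (e ≫ p).left := by rw [Over.comp_left]; infer_instance
  have hone : Subsingleton Q.left := by
    refine ⟨fun x y => ?_⟩
    obtain ⟨x, rfl⟩ := (e ≫ p).left.surjective x
    obtain ⟨y, rfl⟩ := (e ≫ p).left.surjective y
    have h1 : e ≫ p = toUnit E ≫ η[Q] := hker.w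
    rw [h1, Over.comp_left, Scheme.Hom.comp_apply, Scheme.Hom.comp_apply]
    congr 1
    exact Subsingleton.elim (α := PrimeSpectrum K) _ _
  have hqcQ : QuasiCompact Q.hom := by
    have : CompactSpace Q.left := inferInstance
    exact (quasiCompact_iff_compactSpace Q.hom).mpr this
  have hlqf : LocallyQuasiFinite Q.hom := LocallyQuasiFinite.of_injective (fun x y _ => Subsingleton.elim x y)
  have hart : IsLocallyArtinian (Spec (CommRingCat.of K)) := inferInstance
  have hfin : IsFinite Q.hom := IsFinite.of_locallyQuasiFinite Q.hom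
  obtain ⟨n, hn, hn1⟩ := exists_pow_eq_one K Q
  have h2 : ((𝟙 D : D ⟶ D) ^ n) ≫ p = 1 := by
    have h3 : ((𝟙 D : D ⟶ D) ^ n) ≫ p = p ≫ ((𝟙 Q : Q ⟶ Q) ^ n) := by
      rw [MonObj.pow_comp, MonObj.comp_pow, Category.id_comp, Category.comp_id]
    rw [h3, hn1, MonObj.comp_one]
  exact ⟨n, hker.lift _ (toUnit D) (by rw [h2, Hom.one_def]), hn, hker.lift_fst _ _ _⟩

/-- the underlying space of a group scheme over a field with reduced identity component `e` -/
theorem exists_smooth_of_surjective_pow (k : Type u) [Field k] (G : Over (Spec (CommRingCat.of k)))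
    [GrpObj G] [IsCommMonObj G] [LocallyOfFiniteType G.hom] [QuasiCompact G.hom]
    (K : Type u) [Field K] [IsAlgClosed K] (t : Spec (CommRingCat.of K) ⟶ Spec (CommRingCat.of k))
    (hsurj : ∀ (E : Over (Spec (CommRingCat.of K))) [GrpObj E] [IsCommMonObj E] [Smooth E.hom]
      [QuasiCompact E.hom] [ConnectedSpace E.left] (e : E ⟶ Red.bc t G) [IsMonHom e] [IsClosedImmersion e.left]
      (n : ℕ), 1 ≤ n → Surjective ((𝟙 E : E ⟶ E) ^ n).left)
    (pt : ↥(Spec (CommRingCat.of k))) :
    ∃ (H : Over (Spec (CommRingCat.of k))) (_ : GrpObj H) (i : H ⟶ G), IsMonHom i ∧ IsClosedImmersion i.left ∧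
      Smooth H.hom ∧ Set.range i.left.base = connectedComponent (η[G].left.base pt) := by
  have hsub : Subsingleton ↥(Spec (CommRingCat.of k)) :=
    inferInstanceAs (Subsingleton (PrimeSpectrum k))
  have hsubK : Subsingleton ↥(Spec (CommRingCat.of K)) :=
    inferInstanceAs (Subsingleton (PrimeSpectrum K))
  obtain ⟨G0, _, i0, hi0, hi0c, hi0f, hr0⟩ := S3023.result k G
  have hG0lft : LocallyOfFiniteType G0.hom := by rw [← Over.w i0]; infer_instance
  have hG0qc : QuasiCompact G0.hom := by rw [← Over.w i0]; infer_instance
  have hi0m : Mono i0 := Over.mono_of_mono_left i0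
  have hG0c : IsCommMonObj G0 := Sga7.H758.AlgClosed.isCommMonObj_of_mono i0
  have hG0conn : ConnectedSpace G0.left := by
    have h1 : _root_.IsConnected (Set.range i0.left) := by
      have := hr0 pt
      change Set.range i0.left = _ at this
      rw [this]; exact isConnected_connectedComponent
    have h2 := i0.left.isClosedEmbedding.isEmbedding.toHomeomorph
    have h3 : ConnectedSpace (Set.range i0.left) := isConnected_iff_connectedSpace.mp h1
    exact h2.symm.surjective.connectedSpace h2.symm.continuous
  -- base change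
  let D : Over (Spec (CommRingCat.of K)) := Red.bc t G0
  have i1 : LocallyOfFiniteType D.hom := inferInstanceAs (LocallyOfFiniteType (pullback.snd G0.hom t))
  have i2 : QuasiCompact D.hom := inferInstanceAs (QuasiCompact (pullback.snd G0.hom t))
  have i3 : IsCommMonObj D := by dsimp [D]; infer_instance
  have hDconn : ConnectedSpace D.left := by
    let _ : GrpObj (Over.mk G0.hom) := inferInstanceAs (GrpObj G0)
    have h2 : GeometricallyIrreducible G0.hom := Sga3C.GrpIrr.geometricallyIrreducible_of_connectedSpace G0.hom
    have h3 : GeometricallyIrreducible D.hom := inferInstanceAs (GeometricallyIrreducible (pullback.snd G0.hom t))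
    have h4 : IrreducibleSpace D.left := GeometricallyIrreducible.irreducibleSpace_of_subsingleton D.hom
    infer_instance
  obtain ⟨E, _, e, he, hec, hEs, hEc, her⟩ := Sga3B.RedIdComp.exists_redIdComp D
  have hesurj : Surjective e.left := by
    refine ⟨Set.range_eq_univ.mp ?_⟩
    rw [her]; exact PreconnectedSpace.connectedComponent_eq_univ _
  have hem : Mono e := Over.mono_of_mono_left e
  have hEcomm : IsCommMonObj E := Sga7.H758.AlgClosed.isCommMonObj_of_mono e
  have hEqc : QuasiCompact E.hom := by rw [← Over.w e]; infer_instance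
  have hEred : IsReduced E.left := Books.AlgPtsSmooth.isReduced_of_smooth E
  obtain ⟨n, a, hn, han⟩ := exists_pow_factor K D E e
  -- the power map downstairs
  have hmon : IsMonHom ((𝟙 G0 : G0 ⟶ G0) ^ n) := Sga7.H758.EndRing.isMonHom_pow _ _
  have hqcn : QuasiCompact ((𝟙 G0 : G0 ⟶ G0) ^ n).left := by
    have : QuasiCompact (((𝟙 G0 : G0 ⟶ G0) ^ n).left ≫ G0.hom) := by rw [Over.w]; infer_instance
    have : IsSeparated G0.hom := Books.AntiAffine.isSeparated_hom G0
    exact QuasiCompact.of_comp _ G0.hom
  have hfG0 : Flat G0.hom := inferInstance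
  obtain ⟨C, _, p, i, hp, hi, hpi, hpf, hps, hplfp, hic⟩ := S3034.result k G0 G0 ((𝟙 G0 : G0 ⟶ G0) ^ n) (by
    change Flat (Y := Spec (CommRingCat.of k)) (pullback.snd ((𝟙 G0 : G0 ⟶ G0) ^ n).left _)
    infer_instance)
  let pK : D ⟶ Red.bc t C := (Over.pullback t).map p
  let iK : Red.bc t C ⟶ D := (Over.pullback t).map i
  have hpKf : Flat pK.left :=
    MorphismProperty.of_isPullback (P := @Flat) (Sga7.H756.GenBase.isPullback_map t p).flip hpf
  have hpKs : Surjective pK.left :=
    MorphismProperty.of_isPullback (P := @Surjective) (Sga7.H756.GenBase.isPullback_map t p).flip hps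
  have hiKc : IsClosedImmersion iK.left :=
    MorphismProperty.of_isPullback (P := @IsClosedImmersion) (Sga7.H756.GenBase.isPullback_map t i).flip hic
  have hpKd : IsSchemeTheoreticallyDominant pK.left :=
    Sga3C.FlatGeneric.isSchemeTheoreticallyDominant_of_flat_surjective _
  have hcomp : pK ≫ iK = (𝟙 D : D ⟶ D) ^ n := by
    dsimp only [pK, iK]
    rw [← Functor.map_comp, hpi]
    have h := Groth.Agent.Grpsch.AbBC.map_zpow_one t G0 (n : ℤ)
    rw [zpow_natCast] at h
    exact h.trans (zpow_natCast _ _)
  have hker : e.left.ker ≤ iK.left.ker := by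
    have h1 : e.left.ker ≤ (a.left ≫ e.left).ker := Scheme.Hom.le_ker_comp _ _
    have h2 : a.left ≫ e.left = pK.left ≫ iK.left := by
      rw [← Over.comp_left, ← Over.comp_left, han, hcomp]
    rwa [h2, Scheme.Hom.ker_comp, pK.left.ker_eq_bot, Scheme.IdealSheafData.map_bot] at h1
  let b : (Red.bc t C).left ⟶ E.left := IsClosedImmersion.lift e.left iK.left hker
  have hb : b ≫ e.left = iK.left := IsClosedImmersion.lift_fac _ _ _
  have hiKs : Surjective iK.left := by
    have h1 : Surjective (pK.left ≫ iK.left) := by
      rw [← Over.comp_left, hcomp]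
      have h2 : Surjective (e.left ≫ ((𝟙 D : D ⟶ D) ^ n).left) := by
        rw [← Over.comp_left, show e ≫ ((𝟙 D : D ⟶ D) ^ n) = ((𝟙 E : E ⟶ E) ^ n) ≫ e by
          rw [MonObj.pow_comp, MonObj.comp_pow, Category.id_comp, Category.comp_id], Over.comp_left]
        have h4 : IsClosedImmersion (e ≫ (Over.pullback t).map i0).left := by
          have h5 : IsClosedImmersion ((Over.pullback t).map i0).left :=
            MorphismProperty.of_isPullback (P := @IsClosedImmersion)
              (Sga7.H756.GenBase.isPullback_map t i0).flip hi0c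
          rw [Over.comp_left]
          infer_instance
        have h3 := hsurj E (e ≫ (Over.pullback t).map i0) n hn
        infer_instance
      exact Surjective.of_comp e.left _
    exact Surjective.of_comp pK.left _
  have hbc : IsClosedImmersion b := by
    have : IsClosedImmersion (b ≫ e.left) := by rw [hb]; infer_instance
    exact IsClosedImmersion.of_comp b e.left
  have hbs : Surjective b := by
    refine ⟨fun x => ?_⟩
    obtain ⟨y, hy⟩ := iK.left.surjective (e.left x)
    refine ⟨y, e.left.isClosedEmbedding.injective ?_⟩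
    rw [← hy, ← hb, Scheme.Hom.comp_apply]
  have hbiso : IsIso b := isIso_of_isClosedImmersion_of_surjective b
  have hCK : Smooth (Red.bc t C).hom := by
    have h1 : b ≫ E.hom = (Red.bc t C).hom := by
      rw [← Over.w e, ← Category.assoc, hb, Over.w]
    rw [← h1]
    infer_instance
  have hC : Smooth C.hom := by
    have hts : Surjective t := ⟨fun y => ⟨IsLocalRing.closedPoint K, Subsingleton.elim _ _⟩⟩
    have htf : Flat t := inferInstance
    have htq : QuasiCompact t := inferInstance
    refine MorphismProperty.of_pullback_snd_of_descendsAlong (P := @Smooth)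
      (Q := @Surjective ⊓ @Flat ⊓ @QuasiCompact) (f := C.hom) (g := t) ⟨⟨hts, htf⟩, htq⟩ ?_
    exact hCK
  refine ⟨C, inferInstance, i ≫ i0, inferInstance, by rw [Over.comp_left]; infer_instance, hC, ?_⟩
  have his : Surjective i.left := by
    refine ⟨fun x => ?_⟩
    obtain ⟨y, hy⟩ := (pullback.fst G0.hom t).surjective x
    obtain ⟨z, hz⟩ := iK.left.surjective y
    refine ⟨pullback.fst C.hom t z, ?_⟩
    have h1 : pullback.fst C.hom t ≫ i.left = iK.left ≫ pullback.fst G0.hom t :=
      (Sga7.H756.GenBase.isPullback_map t i).w.symm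
    rw [← Scheme.Hom.comp_apply, h1, Scheme.Hom.comp_apply, hz, hy]
  have h1 : Set.range (i ≫ i0).left = Set.range i0.left := by
    rw [Over.comp_left, Scheme.Hom.comp_base, TopCat.coe_comp, Set.range_comp,
      Set.range_eq_univ.mpr his.surj, Set.image_univ]
  exact h1.trans (hr0 pt)

end K275.RedSmooth
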