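import Groth.Agent.Fdesc.LocGenTensor
import Groth.Agent.Fdesc.LocGenPullback
import Groth.Agent.Picfga.LineHom
import Groth.Agent.Picfga.LineCocycle
import Mathlib.AlgebraicGeometry.Morphisms.ClosedImmersion

/-!
# Roots of invertible modules lift uniquely along square-zero thickenings

`i : Z ⟶ X` a closed immersion whose ideal has square zero, `n` invertible on `X`.
* `exists_root`: units of `X` whose restriction to `Z` is an `n`-th power `c ^ n` have a unique `n`-th root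
  restricting to `c`;
* `exists_invertible_root`: the same for invertible modules.
-/

set_option autoImplicit false

universe u

open CategoryTheory CategoryTheory.Limits AlgebraicGeometry Opposite TopologicalSpace

namespace K275.Root

open Groth.Agent.Fdesc.LocGen

variable {X Z : Scheme.{u}} (i : Z ⟶ X)

/-- the ideal of `i` has square zero -/
def SqZ : Prop := ∀ (V : X.Opens), IsAffineOpen V → ∀ a b : Γ(X, V), i.app V a = 0 → i.app V b = 0 → a * b = 0

theorem app_ores {U V : X.Opens} (h : V ≤ U) (a : Γ(X, U)) :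
    i.app V (ores h a) = ores (i.preimage_mono h) (i.app U a) :=
  congr($(i.naturality (homOfLE h).op) a)

theorem exists_affine {U : X.Opens} {x : X} (hx : x ∈ U) : ∃ V : X.Opens, IsAffineOpen V ∧ x ∈ V ∧ V ≤ U := by
  obtain ⟨_, ⟨V, hV, rfl⟩, hxV, hVU⟩ := X.isBasis_affineOpens.exists_subset_of_mem_open hx U.2
  exact ⟨V, hV, hxV, hVU⟩

variable {i}

theorem mul_eq_zero (hI : SqZ i) {U : X.Opens} (a b : Γ(X, U)) (ha : i.app U a = 0) (hb : i.app U b = 0) :
    a * b = 0 := by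
  choose V hV hx hVU using fun x : U => exists_affine x.2
  refine ores_ext V hVU (fun x hxU => Opens.mem_iSup.2 ⟨⟨x, hxU⟩, hx ⟨x, hxU⟩⟩) fun x => ?_
  rw [map_mul, map_zero]
  apply hI (V x) (hV x)
  · rw [app_ores, ha, map_zero]
  · rw [app_ores, hb, map_zero]

theorem isUnit_of_app (hI : SqZ i) [IsClosedImmersion i] {U : X.Opens} (hU : IsAffineOpen U) (a : Γ(X, U))
    (ha : IsUnit (i.app U a)) : IsUnit a := by
  obtain ⟨v, hv⟩ := ha
  obtain ⟨b, hb⟩ := i.app_surjective U hU (v⁻¹ : (Γ(Z, i ⁻¹ᵁ U))ˣ)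
  have h1 : i.app U (a * b - 1) = 0 := by
    rw [map_sub, map_mul, map_one, hb, ← hv, Units.mul_inv, sub_self]
  have h2 := hI U hU _ _ h1 h1
  have h3 : a * (b * (2 - a * b)) = 1 := by linear_combination -h2
  exact IsUnit.of_mul_eq_one _ h3

/-- lifting units over affine opens -/
theorem exists_lift_unit (hI : SqZ i) [IsClosedImmersion i] {U : X.Opens} (hU : IsAffineOpen U)
    (c : Γ(Z, i ⁻¹ᵁ U)) (hc : IsUnit c) : ∃ a : Γ(X, U), IsUnit a ∧ i.app U a = c := by
  obtain ⟨a, ha⟩ := i.app_surjective U hU c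
  exact ⟨a, isUnit_of_app hI hU a (by rw [ha]; exact hc), ha⟩

/-- the binomial formula modulo a square-zero element -/
theorem add_pow_of_sq {R : Type*} [CommRing R] (a y : R) (hy : y * y = 0) (n : ℕ) :
    (a + y) ^ (n + 1) = a ^ (n + 1) + ((n + 1 : ℕ) : R) * a ^ n * y := by
  induction n with
  | zero => simp
  | succ n ih =>
    rw [_root_.pow_succ, ih]
    push_cast
    have : (a ^ (n + 1) + ((n : R) + 1) * a ^ n * y) * (a + y) =
      a ^ (n + 1 + 1) + ((n : R) + 1 + 1) * a ^ (n + 1) * y + ((n : R) + 1) * a ^ n * (y * y) := by ring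
    rw [this, hy]; ring

theorem root_unique (hI : SqZ i) {n : ℕ} {U : X.Opens} (hn : IsUnit ((n + 1 : ℕ) : Γ(X, U))) {a a' : Γ(X, U)}
    (ha : IsUnit a) (h : a ^ (n + 1) = a' ^ (n + 1)) (h' : i.app U a = i.app U a') : a = a' := by
  have h1 : i.app U (a' - a) = 0 := by rw [map_sub, h', sub_self]
  have h2 := mul_eq_zero hI _ _ h1 h1
  have h3 := add_pow_of_sq a (a' - a) h2 n
  rw [add_sub_cancel, ← h] at h3
  have h4 : ((n + 1 : ℕ) : Γ(X, U)) * a ^ n * (a' - a) = 0 := by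
    linear_combination -h3
  have h5 : IsUnit (((n + 1 : ℕ) : Γ(X, U)) * a ^ n) := hn.mul (ha.pow n)
  exact (sub_eq_zero.mp (h5.mul_right_eq_zero.mp h4)).symm

theorem root_affine (hI : SqZ i) [IsClosedImmersion i] {n : ℕ} {U : X.Opens} (hU : IsAffineOpen U)
    (hn : IsUnit ((n + 1 : ℕ) : Γ(X, U))) (b : Γ(X, U)) (c : Γ(Z, i ⁻¹ᵁ U)) (hc : IsUnit c)
    (h : i.app U b = c ^ (n + 1)) : ∃ a : Γ(X, U), IsUnit a ∧ a ^ (n + 1) = b ∧ i.app U a = c := by
  obtain ⟨a₀, ha₀, hac⟩ := exists_lift_unit hI hU c hc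
  have h1 : i.app U (b - a₀ ^ (n + 1)) = 0 := by rw [map_sub, map_pow, hac, h, sub_self]
  have h5 : IsUnit (((n + 1 : ℕ) : Γ(X, U)) * a₀ ^ n) := hn.mul (ha₀.pow n)
  obtain ⟨v, hv⟩ := h5
  let y : Γ(X, U) := (v⁻¹ : (Γ(X, U))ˣ) * (b - a₀ ^ (n + 1))
  have hy : i.app U y = 0 := by
    change i.app U ((v⁻¹ : (Γ(X, U))ˣ) * (b - a₀ ^ (n + 1))) = 0
    rw [map_mul, h1, mul_zero]
  have hyy : y * y = 0 := mul_eq_zero hI y y hy hy
  have h6 : (a₀ + y) ^ (n + 1) = b := by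
    rw [add_pow_of_sq a₀ y hyy n, ← hv]
    change a₀ ^ (n + 1) + v * ((v⁻¹ : (Γ(X, U))ˣ) * (b - a₀ ^ (n + 1))) = b
    rw [← mul_assoc, Units.mul_inv, one_mul, add_sub_cancel]
  have h7 : i.app U (a₀ + y) = c := by rw [map_add, hac, hy, add_zero]
  exact ⟨a₀ + y, isUnit_of_app hI hU _ (by rw [h7]; exact hc), h6, h7⟩

/-- Units of `X` which are `n`-th powers on `Z` have compatible `n`-th roots. -/
theorem exists_root (hI : SqZ i) [IsClosedImmersion i] {n : ℕ} (hn : IsUnit ((n + 1 : ℕ) : Γ(X, ⊤))) {U : X.Opens}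
    (b : Γ(X, U)) (c : Γ(Z, i ⁻¹ᵁ U)) (hc : IsUnit c) (h : i.app U b = c ^ (n + 1)) :
    ∃ a : Γ(X, U), IsUnit a ∧ a ^ (n + 1) = b ∧ i.app U a = c := by
  have hnU : ∀ V : X.Opens, IsUnit ((n + 1 : ℕ) : Γ(X, V)) := fun V => by
    have := hn.map (ores (le_top : V ≤ ⊤))
    rwa [map_natCast] at this
  choose V hV hx hVU using fun x : U => exists_affine x.2
  have hcov : U ≤ ⨆ x, V x := fun x hxU => Opens.mem_iSup.2 ⟨⟨x, hxU⟩, hx ⟨x, hxU⟩⟩
  have h1 : ∀ x : U, ∃ a : Γ(X, V x), IsUnit a ∧ a ^ (n + 1) = ores (hVU x) b ∧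
      i.app (V x) a = ores (i.preimage_mono (hVU x)) c := fun x =>
    root_affine hI (hV x) (hnU _) _ _ (hc.map _) (by rw [app_ores, h, map_pow])
  choose a ha1 ha2 ha3 using h1
  obtain ⟨t, ht⟩ := ores_glue V hVU hcov a (fun x y => by
    apply root_unique hI (hnU _) ((ha1 x).map _)
    · rw [← map_pow, ← map_pow, ha2, ha2, ores_ores, ores_ores]
    · rw [app_ores, app_ores, ha3, ha3, ores_ores, ores_ores])
  obtain ⟨t', ht'⟩ := ores_glue V hVU hcov (fun x => ((ha1 x).unit⁻¹ : (Γ(X, V x))ˣ)) (fun x y => by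
    have e1 : ores (inf_le_left : V x ⊓ V y ≤ V x) (a x) = ores inf_le_right (a y) := by
      rw [← ht, ← ht, ores_ores, ores_ores]
    have e2 : ores (inf_le_left : V x ⊓ V y ≤ V x) (a x) *
        ores (inf_le_left : V x ⊓ V y ≤ V x) ((ha1 x).unit⁻¹ : (Γ(X, V x))ˣ) = 1 := by
      rw [← map_mul, IsUnit.mul_val_inv, map_one]
    have e3 : ores (inf_le_right : V x ⊓ V y ≤ V y) (a y) *
        ores (inf_le_right : V x ⊓ V y ≤ V y) ((ha1 y).unit⁻¹ : (Γ(X, V y))ˣ) = 1 := by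
      rw [← map_mul, IsUnit.mul_val_inv, map_one]
    have e4 : IsUnit (ores (inf_le_left : V x ⊓ V y ≤ V x) (a x)) := (ha1 x).map _
    apply e4.mul_left_cancel
    rw [e2, e1, e3])
  have htt : t * t' = 1 := ores_ext V hVU hcov fun x => by
    rw [map_mul, ht, ht', IsUnit.mul_val_inv, map_one]
  refine ⟨t, IsUnit.of_mul_eq_one _ htt, ores_ext V hVU hcov fun x => by rw [map_pow, ht, ha2],
    ores_ext (fun x => i ⁻¹ᵁ V x) (fun x => i.preimage_mono (hVU x)) ?_ fun x => by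
      rw [← app_ores i (hVU x), ht, ha3]⟩
  intro z hz
  obtain ⟨x, hx⟩ := Opens.mem_iSup.1 (hcov (show i z ∈ U from hz))
  exact Opens.mem_iSup.2 ⟨x, hx⟩

variable (i) in
/-- compatible generators of `L` on `X` and of `L'` on `Z` -/
theorem exists_gens (hI : SqZ i) [IsClosedImmersion i] (n : ℕ) (L : X.Modules) (hL : PicF.IsInvertible L)
    (L' : Z.Modules) (hL' : PicF.IsInvertible L')
    (φ : CohB1.tensorPow L' n ≅ (Scheme.Modules.pullback i).obj L) (x : X) :
    ∃ (U : X.Opens) (e : Γ(L, U)) (e' : Γ(L', i ⁻¹ᵁ U)), x ∈ U ∧ IsGen e ∧ IsGen e' ∧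
      φ.hom.app (i ⁻¹ᵁ U) (Groth.Agent.Fdesc.LocGen.pow e' n) = pullSec i e := by
  -- generators of `L'`
  have h1 : ∃ (W : X.Opens) (e' : Γ(L', i ⁻¹ᵁ W)), x ∈ W ∧ IsGen e' := by
    by_cases hx : x ∈ Set.range i
    · obtain ⟨z, rfl⟩ := hx
      obtain ⟨W, e, hz, he⟩ := (isInvertible_iff L').1 hL' z
      obtain ⟨O, hO, hOW⟩ := i.isClosedEmbedding.isInducing.isOpen_iff.mp W.2
      have h1 : i ⁻¹ᵁ ⟨O, hO⟩ = W := by
        apply Opens.ext
        exact hOW
      refine ⟨⟨O, hO⟩, res L' h1.le e, ?_, he.res _⟩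
      have : z ∈ i ⁻¹ᵁ ⟨O, hO⟩ := by rw [h1]; exact hz
      exact this
    · refine ⟨⟨(Set.range i)ᶜ, i.isClosedEmbedding.isClosed_range.isOpen_compl⟩, 0, hx, ?_⟩
      refine isGen_iff_forall_exists.2 fun z hz => ?_
      exact (hz ⟨z, rfl⟩).elim
  obtain ⟨W, e', hxW, he'⟩ := h1
  obtain ⟨W', e, hxW', he⟩ := (isInvertible_iff L).1 hL x
  obtain ⟨V, hV, hxV, hVW⟩ := exists_affine (U := W ⊓ W') (x := x) ⟨hxW, hxW'⟩
  let e₁ := res L (hVW.trans inf_le_right) e
  let e₁' := res L' (i.preimage_mono (hVW.trans inf_le_left)) e'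
  have he₁ : IsGen e₁ := he.res _
  have he₁' : IsGen e₁' := he'.res _
  obtain ⟨c, hc, hc'⟩ := (he₁.pullSec i).exists_unit ((he₁'.pow n).app φ.hom)
  obtain ⟨a, ha, hac⟩ := exists_lift_unit hI hV c hc
  refine ⟨V, a • e₁, e₁', hxV, he₁.unit_smul ha, he₁', ?_⟩
  rw [hc', pullSec_smul, hac]

/-- **Roots of invertible modules along square-zero thickenings.** -/
theorem exists_invertible_root (hI : SqZ i) [IsClosedImmersion i] (n : ℕ) (hn : IsUnit ((n + 1 : ℕ) : Γ(X, ⊤)))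
    (L : X.Modules) (hL : PicF.IsInvertible L) (L' : Z.Modules) (hL' : PicF.IsInvertible L')
    (φ : CohB1.tensorPow L' (n + 1) ≅ (Scheme.Modules.pullback i).obj L) :
    ∃ M : X.Modules, PicF.IsInvertible M ∧ Nonempty (CohB1.tensorPow M (n + 1) ≅ L) ∧
      Nonempty ((Scheme.Modules.pullback i).obj M ≅ L') := by
  have hnU : ∀ V : X.Opens, IsUnit ((n + 1 : ℕ) : Γ(X, V)) := fun V => by
    have := hn.map (ores (le_top : V ≤ ⊤))
    rwa [map_natCast] at this
  choose U e e' hxU he he' hφ using exists_gens i hI (n + 1) L hL L' hL' φ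
  -- the transition functions
  have htr : ∀ x y : X, ∃ a : Γ(X, U x ⊓ U y), IsUnit a ∧
      res L inf_le_left (e x) = a ^ (n + 1) • res L inf_le_right (e y) ∧
      res L' (i.preimage_mono inf_le_left) (e' x) = (i.app (U x ⊓ U y) a : Γ(Z, i ⁻¹ᵁ (U x ⊓ U y))) •
        res L' (i.preimage_mono inf_le_right) (e' y) := by
    intro x y
    obtain ⟨b, hb, hb'⟩ := ((he y).res (inf_le_right : U x ⊓ U y ≤ U y)).exists_unit
      ((he x).res (inf_le_left : U x ⊓ U y ≤ U x))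
    obtain ⟨c, hc, hc'⟩ := ((he' y).res (i.preimage_mono (inf_le_right : U x ⊓ U y ≤ U y))).exists_unit
      ((he' x).res (i.preimage_mono (inf_le_left : U x ⊓ U y ≤ U x)))
    have h1 : i.app (U x ⊓ U y) b = c ^ (n + 1) := by
      apply (((he y).res (inf_le_right : U x ⊓ U y ≤ U y)).pullSec i).ext
      rw [← pullSec_smul, ← hb', ← res_pullSec, ← hφ, ← app_res, res_pow, hc', smul_pow,
        Scheme.Modules.Hom.app_smul, ← res_pow, app_res, hφ, res_pullSec]
    obtain ⟨a, ha, ha1, ha2⟩ := exists_root hI hn b c hc h1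
    exact ⟨a, ha, by rw [ha1, hb'], by rw [ha2, hc']⟩
  choose g hg g1 g2 using htr
  have gres : ∀ (x y : X) (V : X.Opens) (hx : V ≤ U x) (hy : V ≤ U y),
      res L hx (e x) = (ores (le_inf hx hy) (g x y)) ^ (n + 1) • res L hy (e y) ∧
      res L' (i.preimage_mono hx) (e' x) = (i.app V (ores (le_inf hx hy) (g x y)) : Γ(Z, i ⁻¹ᵁ V)) •
        res L' (i.preimage_mono hy) (e' y) := by
    intro x y V hx hy
    constructor
    · have := congrArg (res L (le_inf hx hy)) (g1 x y)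
      rwa [res_res, res_smul, res_res, map_pow] at this
    · have := congrArg (res L' (i.preimage_mono (le_inf hx hy))) (g2 x y)
      rwa [res_res, res_smul, res_res, ← app_ores] at this
  -- uniqueness
  have huniq : ∀ (x y : X) (V : X.Opens) (hx : V ≤ U x) (hy : V ≤ U y) (a a' : Γ(X, V)), IsUnit a →
      a ^ (n + 1) • res L hy (e y) = a' ^ (n + 1) • res L hy (e y) →
      (i.app V a : Γ(Z, i ⁻¹ᵁ V)) • res L' (i.preimage_mono hy) (e' y) =
        (i.app V a' : Γ(Z, i ⁻¹ᵁ V)) • res L' (i.preimage_mono hy) (e' y) → a = a' := by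
    intro x y V hx hy a a' ha h1 h2
    exact root_unique hI (hnU V) ha (((he y).res hy).ext h1) (((he' y).res (i.preimage_mono hy)).ext h2)
  obtain ⟨M, f, hf, hfg⟩ := Groth.Agent.Picfga.LineCocycle.exists_of_cocycle U g (by
      intro x
      apply huniq x x (U x ⊓ U x) inf_le_left inf_le_right _ _ (hg x x)
      · rw [← g1 x x, one_pow, one_smul]
      · rw [← g2 x x, map_one, one_smul]) (by
      intro x y z V hx hy hz
      have hxz := gres x z V hx hz
      have hxy := gres x y V hx hy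
      have hyz := gres y z V hy hz
      apply huniq x z V hx hz _ _ ((hg x z).map _)
      · rw [← hxz.1, hxy.1, hyz.1, smul_smul, mul_pow]
      · rw [← hxz.2, hxy.2, hyz.2, smul_smul, map_mul])
  have hcov : ⨆ x, U x = ⊤ := by
    rw [eq_top_iff]
    intro x _
    exact Opens.mem_iSup.2 ⟨x, hxU x⟩
  have hcov' : ⨆ x, i ⁻¹ᵁ (U x) = ⊤ := by
    rw [eq_top_iff]
    intro z _
    exact Opens.mem_iSup.2 ⟨i z, hxU _⟩
  refine ⟨M, (isInvertible_iff M).2 fun x => ⟨U x, f x, hxU x, hf x⟩, ?_, ?_⟩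
  · have hF : ∀ x, IsGen (Groth.Agent.Fdesc.LocGen.pow (f x) (n + 1)) := fun x => (hf x).pow (n + 1)
    obtain ⟨ψ, -⟩ := Groth.Agent.Picfga.LineHom.exists_iso hcov hF (n := e)
      (Groth.Agent.Picfga.LineHom.trans_of_inf hF fun x y => ⟨g x y ^ (n + 1), by
        rw [res_pow, res_pow, ← smul_pow, hfg], g1 x y⟩) he
    exact ⟨ψ⟩
  · have hF : ∀ x, IsGen (pullSec i (f x)) := fun x => (hf x).pullSec i
    obtain ⟨ψ, -⟩ := Groth.Agent.Picfga.LineHom.exists_iso hcov' hF (n := e')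
      (Groth.Agent.Picfga.LineHom.trans_of_inf hF fun x y => ⟨i.app (U x ⊓ U y) (g x y), by
        have h1 := congrArg (pullSec i) (hfg x y)
        rw [pullSec_smul, ← res_pullSec, ← res_pullSec] at h1
        exact h1, g2 x y⟩) he'
    exact ⟨ψ⟩

end K275.Root
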