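import Groth.Agent.Sga7.H274.FieldPts
import Groth.Agent.Sga7.H274.TorsLift
import Groth.Agent.Sga7.H736.BasePts
import Groth.Agent.Sga7.H620.TorsCount
import Groth.Agent.Sga3B.RedIdComp
import Groth.Agent.Sga3B.KerGrp
import Groth.Agent.Sga7.H756.GenBase
import Mathlib.AlgebraicGeometry.Morphisms.Flat
import Groth.Agent.S3025

/-!
# Prime-power torsion points lift along surjective homomorphisms

* `exists_torsion_lift`: over an algebraically closed field, `u : A ⟶ B` a surjective homomorphism of commutative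
  groups of finite type; every `ℓ`-power torsion point of `B` (`ℓ` prime, invertible) is the image of an `ℓ`-power
  torsion point of `A`;
* `exists_torsion_lift_sep`: the same over a separably closed field when `A` is smooth;
* `exists_torsion_lift_pts`: the same for the `Ω`-points of groups over `K`, `Ω ⊃ K` separably closed.
-/

set_option autoImplicit false

universe u

open CategoryTheory CategoryTheory.Limits AlgebraicGeometry MonObj
open MonoidalCategory CartesianMonoidalCategory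

namespace K275.TorsSurj

open Groth.Agent Groth.Agent.Books.AlgPts Groth.Agent.Sga7.H620.Neutral

/-- torsion points lift along surjective homomorphisms (algebraically closed fields). -/
theorem exists_torsion_lift {k : Type u} [Field k] [IsAlgClosed k] {A B : Over (Spec (CommRingCat.of k))}
    [GrpObj A] [GrpObj B] [IsCommMonObj A] [LocallyOfFiniteType A.hom] [QuasiCompact A.hom]
    [LocallyOfFiniteType B.hom] [IsSeparated B.hom] (u : A ⟶ B) [IsMonHom u] (hu : Surjective u.left)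
    (l : ℕ) (hl : l.Prime) (hlk : (l : k) ≠ 0) (n : ℕ)
    (x : 𝟙_ (Over (Spec (CommRingCat.of k))) ⟶ B) (hx : x ^ (l ^ n) = 1) :
    ∃ (m : ℕ) (y : 𝟙_ (Over (Spec (CommRingCat.of k))) ⟶ A), y ^ (l ^ m) = 1 ∧ y ≫ u = x := by
  obtain ⟨_, _⟩ := Sga3B.KerGrp.exists_grpObj u
  have hmono : Mono (Sga3B.KerGrp.kerι u) := inferInstance
  have hkc : IsClosedImmersion (Sga3B.KerGrp.kerι u).left := inferInstance
  have hklft : LocallyOfFiniteType (Sga3B.KerGrp.kerObj u).hom := by
    rw [← Over.w (Sga3B.KerGrp.kerι u)]; infer_instance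
  have hkqc : QuasiCompact (Sga3B.KerGrp.kerObj u).hom := by
    rw [← Over.w (Sga3B.KerGrp.kerι u)]; infer_instance
  obtain ⟨U, _, v, hv, hvc, hUs, hUc, hUr⟩ := Sga3B.RedIdComp.exists_redIdComp (Sga3B.KerGrp.kerObj u)
  have hUqc : QuasiCompact U.hom := by rw [← Over.w v]; infer_instance
  have hvm : Mono v := Over.mono_of_mono_left v
  have hUcomm : IsCommMonObj U :=
    Sga7.H620.TorsCount.isCommMonObj_of_mono (v ≫ Sga3B.KerGrp.kerι u)
  obtain ⟨c, hc, hcU⟩ := Sga7.H274.FieldPts.exists_pow_neutral (Sga3B.KerGrp.kerObj u) U v hUr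
  obtain ⟨a, c', hc', hca⟩ := Nat.exists_eq_pow_mul_and_not_dvd hc.ne' l hl.ne_one
  obtain ⟨y, hy⟩ := exists_comp_eq_of_pt_mem_range u x (hu.surj _)
  have hyk : (y ^ (l ^ n)) ≫ u = 1 := by rw [MonObj.pow_comp, hy, hx]
  obtain ⟨z, hz⟩ := Sga3B.KerGrp.exists_lift u (y ^ (l ^ n)) hyk
  obtain ⟨w, hw⟩ := hcU z
  obtain ⟨w', hw'⟩ := Sga7.H274.FieldPts.exists_root U (l ^ (n + a))
    (by rw [Nat.cast_pow]; exact pow_ne_zero _ hlk) w
  let W : 𝟙_ (Over (Spec (CommRingCat.of k))) ⟶ A := w' ≫ v ≫ Sga3B.KerGrp.kerι u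
  have hW : W ^ (l ^ (n + a)) = y ^ (l ^ (n + a) * c') := by
    have h1 : W ^ (l ^ (n + a)) = (w' ^ (l ^ (n + a))) ≫ v ≫ Sga3B.KerGrp.kerι u := by
      rw [MonObj.pow_comp]
    rw [h1, hw', ← Category.assoc, hw, MonObj.pow_comp, hz, ← pow_mul, hca]
    congr 1
    ring
  have hWu : W ≫ u = 1 := by
    dsimp only [W]
    rw [Category.assoc, Category.assoc, Sga3B.KerGrp.kerι_comp, MonObj.comp_one, MonObj.comp_one]
  have hy1 : (y ^ c' * W⁻¹) ^ (l ^ (n + a)) = 1 := by
    rw [mul_pow, inv_pow, hW, ← pow_mul, _root_.mul_comm c', mul_inv_cancel]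
  have hcop : c'.Coprime (orderOf x) :=
    (((Nat.Prime.coprime_iff_not_dvd hl).2 hc').symm.pow_right n).coprime_dvd_right
      (orderOf_dvd_of_pow_eq_one hx)
  obtain ⟨e, he⟩ := exists_pow_eq_self_of_coprime hcop
  refine ⟨n + a, (y ^ c' * W⁻¹) ^ e, ?_, ?_⟩
  · rw [← pow_mul, _root_.mul_comm e, pow_mul, hy1, one_pow]
  · rw [MonObj.pow_comp, MonObj.mul_comp, GrpObj.inv_comp, hWu, inv_one, _root_.mul_one,
      MonObj.pow_comp, hy, he]

/-- torsion points lift along surjective homomorphisms (separably closed fields). -/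
theorem exists_torsion_lift_sep {k : Type u} [Field k] [IsSepClosed k] {A B : Over (Spec (CommRingCat.of k))}
    [GrpObj A] [GrpObj B] [IsCommMonObj A] [Smooth A.hom] [QuasiCompact A.hom]
    [LocallyOfFiniteType B.hom] [IsSeparated B.hom] (u : A ⟶ B) [IsMonHom u] (hu : Surjective u.left)
    (l : ℕ) (hl : l.Prime) (hlk : (l : k) ≠ 0) (n : ℕ)
    (x : 𝟙_ (Over (Spec (CommRingCat.of k))) ⟶ B) (hx : x ^ (l ^ n) = 1) :
    ∃ (m : ℕ) (y : 𝟙_ (Over (Spec (CommRingCat.of k))) ⟶ A), y ^ (l ^ m) = 1 ∧ y ≫ u = x := by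
  let F := AlgebraicClosure k
  let t : Spec (CommRingCat.of F) ⟶ Spec (CommRingCat.of k) := Spec.map (CommRingCat.ofHom (algebraMap k F))
  have ht : t (IsLocalRing.closedPoint F) = IsLocalRing.closedPoint k := Subsingleton.elim (α := PrimeSpectrum k) _ _
  have i1 : Smooth (Red.bc t A).hom := inferInstanceAs (Smooth (pullback.snd A.hom t))
  have i2 : QuasiCompact (Red.bc t A).hom := inferInstanceAs (QuasiCompact (pullback.snd A.hom t))
  have i3 : LocallyOfFiniteType (Red.bc t B).hom := inferInstanceAs (LocallyOfFiniteType (pullback.snd B.hom t))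
  have i4 : IsSeparated (Red.bc t B).hom := inferInstanceAs (IsSeparated (pullback.snd B.hom t))
  have i5 : IsCommMonObj (Red.bc t A) := by infer_instance
  let uF : Red.bc t A ⟶ Red.bc t B := (Over.pullback t).map u
  have i6 : IsMonHom uF := by dsimp [uF]; infer_instance
  have hlF : (l : F) ≠ 0 := by
    have h1 := (map_ne_zero (algebraMap k F)).mpr hlk
    rwa [map_natCast] at h1
  have huF : Surjective uF.left :=
    MorphismProperty.of_isPullback (P := @Surjective)
      (Sga7.H756.GenBase.isPullback_map t u).flip hu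
  obtain ⟨m, y, hy, hyu⟩ := exists_torsion_lift uF huF l hl hlF n (bcPt t B x) (by
    rw [← map_pow, hx, map_one])
  have het : Etale (𝟙 A ^ (l ^ m)).left :=
    Sga7.H751.PowEtale.etale_pow A (l ^ m) (Sga7.H274.FieldPts.residueField_natCast_ne_zero
      (by rw [Nat.cast_pow]; exact pow_ne_zero _ hlk))
  obtain ⟨z, hz, hzy⟩ := Sga7.H274.TorsLift.exists_torsion_lift
    (Sga7.H274.FieldPts.isStrictlyHenselianLocalRing_field k) A (l ^ m) t ht y hy
  refine ⟨m, z, hz, ?_⟩
  have h1 : bcPt t B (z ≫ u) = bcPt t B x := by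
    rw [Sga7.H274.TorsLift.bcPt_comp, hzy, ← hyu]
  have h2 := (Sga7.H274.TorsLift.bcPt_eq_iff t B _ _).1 h1
  have h3 := (Sga7.H274.TorsLift.bcPt_eq_iff t B x _).1 rfl
  have hfl : Flat t := by dsimp only [t]; infer_instance
  have hs : Surjective t := ⟨fun y => ⟨IsLocalRing.closedPoint F, Subsingleton.elim (α := PrimeSpectrum k) _ _⟩⟩
  have hepi : Epi t := Flat.epi_of_flat_of_surjective t
  ext1
  rw [← cancel_epi t, h2, h3]

open SGA7 Groth.Agent.S3210 Groth.Agent.Sga7.H736.BasePts in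
/-- torsion points lift along surjective homomorphisms: `Ω`-points of groups over `K`. -/
theorem exists_torsion_lift_pts {K Ω : Type u} [Field K] [Field Ω] [Algebra K Ω] [IsSepClosed Ω]
    {A B : Over (Spec (CommRingCat.of K))}
    [GrpObj A] [GrpObj B] [IsCommMonObj A] [Smooth A.hom] [QuasiCompact A.hom]
    [LocallyOfFiniteType B.hom] [IsSeparated B.hom] (u : A ⟶ B) [IsMonHom u] (hu : Surjective u.left)
    (l : ℕ) (hl : l.Prime) (hlk : (l : K) ≠ 0) (n : ℕ)
    (x : pt (K := K) Ω ⟶ B) (hx : x ^ (l ^ n) = 1) :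
    ∃ (m : ℕ) (y : pt (K := K) Ω ⟶ A), y ^ (l ^ m) = 1 ∧ y ≫ u = x := by
  let t : Spec (CommRingCat.of Ω) ⟶ Spec (CommRingCat.of K) := fRK K Ω
  have i1 : Smooth (Red.bc t A).hom := inferInstanceAs (Smooth (pullback.snd A.hom t))
  have i2 : QuasiCompact (Red.bc t A).hom := inferInstanceAs (QuasiCompact (pullback.snd A.hom t))
  have i3 : LocallyOfFiniteType (Red.bc t B).hom := inferInstanceAs (LocallyOfFiniteType (pullback.snd B.hom t))
  have i4 : IsSeparated (Red.bc t B).hom := inferInstanceAs (IsSeparated (pullback.snd B.hom t))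
  have i5 : IsCommMonObj (Red.bc t A) := by infer_instance
  let uF : Red.bc t A ⟶ Red.bc t B := (Over.pullback t).map u
  have i6 : IsMonHom uF := by dsimp [uF]; infer_instance
  have hlF : (l : Ω) ≠ 0 := by
    have h1 := (map_ne_zero (algebraMap K Ω)).mpr hlk
    rwa [map_natCast] at h1
  have huF : Surjective uF.left :=
    MorphismProperty.of_isPullback (P := @Surjective)
      (Sga7.H756.GenBase.isPullback_map t u).flip hu
  let e : 𝟙_ (Over (Spec (CommRingCat.of Ω))) ≅ pt (K := Ω) Ω :=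
    Over.isoMk (Iso.refl _) (by
      change 𝟙 _ ≫ Spec.map (CommRingCat.ofHom (algebraMap Ω Ω)) = 𝟙 _
      rw [Category.id_comp]
      exact Spec.map_id _)
  obtain ⟨m, y, hy, hyu⟩ := exists_torsion_lift_sep uF huF l hl hlF n (e.hom ≫ (ptsEquiv B).symm x) (by
    rw [← MonObj.comp_pow, ← map_pow, hx, map_one, MonObj.comp_one])
  refine ⟨m, ptsEquiv A (e.inv ≫ y), ?_, ?_⟩
  · rw [← map_pow, ← MonObj.comp_pow, hy, MonObj.comp_one, map_one]
  · have h1 : ∀ z : pt (K := Ω) Ω ⟶ Red.bc t A, ptsEquiv A z ≫ u = ptsEquiv B (z ≫ uF) := by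
      intro z
      rw [ptsEquiv_apply, ptsEquiv_apply, Category.assoc]
      congr 1
      exact ((Over.mapPullbackAdj (fRK K Ω)).homEquiv_naturality_right_symm z u).symm
    rw [h1, Category.assoc, hyu, e.inv_hom_id_assoc, MulEquiv.apply_symm_apply]

end K275.TorsSurj
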